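import Cfsg.Agent.G2Amalgam.End.Odd

/-!
A subgroup with one class of involutions, order `4245696` and an involution centraliser of order `576`
that is a full centraliser is the whole group.
-/

set_option autoImplicit false

namespace Cfsg.Agent.G2Amalgam.End

open Subgroup

variable {G : Type*} [Group G] [Finite G]

/-- The number of conjugates under a subgroup containing the centraliser. -/
theorem card_class (H : Subgroup G) (t : G) (hC : centralizer ({t} : Set G) ≤ H) :
    Nat.card {x : G // ∃ h ∈ H, h * t * h⁻¹ = x} * Nat.card ↥(centralizer ({t} : Set G)) = Nat.card H := by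
  classical
  rw [← Nat.card_congr (Subgroup.subgroupOfEquivOfLe hC).toEquiv,
    Subgroup.card_eq_card_quotient_mul_card_subgroup ((centralizer ({t} : Set G)).subgroupOf H)]
  congr 1
  refine (Nat.card_congr (Equiv.ofBijective
    (Quotient.lift (fun h : H => (⟨h.1 * t * h.1⁻¹, h.1, h.2, rfl⟩ : {x : G // ∃ h ∈ H, h * t * h⁻¹ = x}))
      fun a b hab => Subtype.ext ?_) ⟨?_, ?_⟩)).symm
  · have := QuotientGroup.leftRel_apply.1 hab
    rw [mem_subgroupOf, mem_centralizer_singleton_iff] at this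
    simp only [Subgroup.coe_mul, InvMemClass.coe_inv] at this
    calc a.1 * t * a.1⁻¹ = a.1 * (t * (a.1⁻¹ * b.1)) * b.1⁻¹ := by group
      _ = b.1 * t * b.1⁻¹ := by rw [← this]; group
  · intro p q
    refine Quotient.inductionOn₂ p q fun a b h => Quotient.sound ?_
    have h' : a.1 * t * a.1⁻¹ = b.1 * t * b.1⁻¹ := congrArg Subtype.val h
    refine QuotientGroup.leftRel_apply.2 ?_
    rw [mem_subgroupOf, mem_centralizer_singleton_iff]
    simp only [Subgroup.coe_mul, InvMemClass.coe_inv]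
    calc a.1⁻¹ * b.1 * t = a.1⁻¹ * (b.1 * t * b.1⁻¹) * b.1 := by group
      _ = t * (a.1⁻¹ * b.1) := by rw [← h']; group
  · rintro ⟨x, h, hh, rfl⟩
    exact ⟨Quotient.mk'' ⟨h, hh⟩, rfl⟩

theorem eq_top_of_centralizer (H : Subgroup G) (hH : Nat.card H = 4245696)
    (hcls : ∀ a ∈ H, ∀ b ∈ H, a * a = 1 → a ≠ 1 → b * b = 1 → b ≠ 1 → ∃ h ∈ H, h * a * h⁻¹ = b)
    (hno : ∀ x ∈ H, orderOf x ≠ 39 ∧ orderOf x ≠ 91)
    (t : G) (htH : t ∈ H) (t1 : t ≠ 1) (tt : t * t = 1)
    (hC : centralizer ({t} : Set G) ≤ H) (hc : Nat.card ↥(centralizer ({t} : Set G)) = 576) : H = ⊤ := by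
  classical
  have hCz : ∀ z ∈ H, z * z = 1 → z ≠ 1 → ∀ g : G, g * z = z * g → g ∈ H := by
    intro z hz zz z1 g hg
    obtain ⟨h, hh, rfl⟩ := hcls t htH z hz tt t1 zz z1
    have : h⁻¹ * g * h ∈ H := hC (mem_centralizer_singleton_iff.2 (by
      calc h⁻¹ * g * h * t = h⁻¹ * (g * (h * t * h⁻¹)) * h := by group
        _ = t * (h⁻¹ * g * h) := by rw [hg]; group))
    simpa [mul_assoc] using mul_mem (mul_mem hh this) (inv_mem hh)
  have hone : ∀ u : G, u * u = 1 → u ≠ 1 → ∃ g, g * t * g⁻¹ = u := by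
    intro u uu u1
    by_cases huH : u ∈ H
    · obtain ⟨h, -, e⟩ := hcls t htH u huH tt t1 uu u1
      exact ⟨h, e⟩
    have hui : u⁻¹ = u := inv_eq_of_mul_eq_one_right uu
    have hti : t⁻¹ = t := inv_eq_of_mul_eq_one_right tt
    obtain ⟨x, hx⟩ : ∃ x, u * t = x := ⟨_, rfl⟩
    have huxk : ∀ k : ℕ, u * x ^ k * u = (x ^ k)⁻¹ ∧ t * x ^ k * t = (x ^ k)⁻¹ := by
      intro k
      induction k with
      | zero => simp [uu, tt]
      | succ k ih =>
        have e1 : u * x * u = x⁻¹ := by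
          rw [← hx, mul_inv_rev, hui, hti, ← mul_assoc, uu, one_mul]
        have e2 : t * x * t = x⁻¹ := by
          rw [← hx, mul_inv_rev, hui, hti, mul_assoc, mul_assoc, tt, mul_one]
        constructor
        · calc u * x ^ (k + 1) * u = u * x ^ k * 1 * x * u := by rw [pow_succ]; group
            _ = (u * x ^ k * u) * (u * x * u) := by rw [← uu]; group
            _ = (x ^ (k + 1))⁻¹ := by rw [ih.1, e1, pow_succ', mul_inv_rev]
        · calc t * x ^ (k + 1) * t = t * x ^ k * 1 * x * t := by rw [pow_succ]; group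
            _ = (t * x ^ k * t) * (t * x * t) := by rw [← tt]; group
            _ = (x ^ (k + 1))⁻¹ := by rw [ih.2, e2, pow_succ', mul_inv_rev]
    rcases Nat.even_or_odd' (orderOf x) with ⟨m, hm | hm⟩
    · exfalso
      obtain ⟨z, hz⟩ : ∃ z, x ^ m = z := ⟨_, rfl⟩
      have hpos := orderOf_pos x
      have zz : z * z = 1 := by rw [← hz, ← pow_add, ← two_mul, ← hm, pow_orderOf_eq_one]
      have z1 : z ≠ 1 := hz ▸ pow_ne_one_of_lt_orderOf (by omega) (by omega)
      have hzi : z⁻¹ = z := inv_eq_of_mul_eq_one_right zz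
      obtain ⟨e1, e2⟩ := huxk m
      rw [hz, hzi] at e1 e2
      have hzt : z * t = t * z := by
        calc z * t = t * z * t * t := by rw [e2]
          _ = t * z := by rw [mul_assoc, tt, mul_one]
      have hzu : u * z = z * u := by
        calc u * z = u * z * (u * u) := by rw [uu, mul_one]
          _ = u * z * u * u := by group
          _ = z * u := by rw [e1]
      exact huH (hCz z (hC (mem_centralizer_singleton_iff.2 hzt)) zz z1 u hzu)
    · refine ⟨(x ^ m)⁻¹, ?_⟩
      rw [inv_inv]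
      obtain ⟨e1, e2⟩ := huxk m
      calc (x ^ m)⁻¹ * t * x ^ m = t * x ^ m * t * t * x ^ m := by rw [e2]
        _ = t * x ^ (2 * m) := by rw [mul_assoc (t * x ^ m) t t, tt, mul_one, mul_assoc, ← pow_add, two_mul]
        _ = t * x⁻¹ := by
          congr 1
          refine eq_inv_of_mul_eq_one_left ?_
          rw [← pow_succ, ← hm, pow_orderOf_eq_one]
        _ = u := by rw [← hx, mul_inv_rev, hui, hti, ← mul_assoc, tt, one_mul]
  by_contra htop
  have hfin : Fintype G := Fintype.ofFinite G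
  let S : Finset G := Finset.univ.filter fun x => x * x = 1 ∧ x ≠ 1
  have hmemS : ∀ x, x ∈ S ↔ x * x = 1 ∧ x ≠ 1 := fun x => by simp [S]
  have hconjS : ∀ g : G, g * t * g⁻¹ ∈ S := fun g => (hmemS _).2
    ⟨by rw [conj_mul, tt, mul_one, mul_inv_cancel], fun e => t1 (conj_eq_one_iff.1 e)⟩
  have hS : S.card * 576 = Nat.card G := by
    have h := card_class (⊤ : Subgroup G) t le_top
    rw [hc, Subgroup.card_top] at h
    rw [← h]
    congr 1
    rw [← Nat.card_eq_finsetCard]
    refine Nat.card_congr (Equiv.subtypeEquivRight fun x => ?_)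
    refine ⟨fun hx => ?_, fun ⟨g, _, e⟩ => e ▸ hconjS g⟩
    obtain ⟨g, e⟩ := hone x ((hmemS x).1 hx).1 ((hmemS x).1 hx).2
    exact ⟨g, mem_top g, e⟩
  have hSH : (S.filter fun x => x ∈ H).card = 7371 := by
    have h := card_class H t hC
    rw [hc, hH] at h
    have e : (S.filter fun x => x ∈ H).card = Nat.card {x : G // ∃ k ∈ H, k * t * k⁻¹ = x} := by
      rw [← Nat.card_eq_finsetCard]
      refine Nat.card_congr (Equiv.subtypeEquivRight fun x => ?_)
      rw [Finset.mem_filter, hmemS]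
      exact ⟨fun ⟨⟨x2, x1⟩, hx⟩ => hcls t htH x hx tt t1 x2 x1, fun ⟨k, hk, e⟩ =>
        e ▸ ⟨(hmemS _).1 (hconjS k), mul_mem (mul_mem hk htH) (inv_mem hk)⟩⟩
    omega
  let f : G → G ⧸ H := QuotientGroup.mk
  have hidx : Nat.card G = 4245696 * H.index := by rw [← H.card_mul_index, hH]
  obtain ⟨q, hq, hbig⟩ : ∃ q : G ⧸ H, q ≠ f 1 ∧ 7371 ≤ (S.filter fun x => f x = q).card := by
    by_contra hno'
    push Not at hno'
    have hsum := Finset.card_eq_sum_card_fiberwise (s := S) (t := (Finset.univ : Finset (G ⧸ H))) (f := f)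
      fun _ _ => Finset.mem_univ _
    have hone' : (S.filter fun x => f x = f 1).card = 7371 := by
      rw [← hSH]
      congr 1
      refine Finset.filter_congr fun x _ => ?_
      show (x : G ⧸ H) = ((1 : G) : G ⧸ H) ↔ x ∈ H
      rw [QuotientGroup.eq, mul_one, inv_mem_iff]
    obtain ⟨g, hg⟩ : ∃ g : G, g ∉ H := by
      by_contra h
      push Not at h
      exact htop (eq_top_iff.2 fun g _ => h g)
    have hg' : f g ≠ f 1 := by
      show ((g : G) : G ⧸ H) ≠ ((1 : G) : G ⧸ H)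
      rw [Ne, QuotientGroup.eq, mul_one, inv_mem_iff]
      exact hg
    have hlt : S.card < ∑ _q : G ⧸ H, 7371 := by
      rw [hsum]
      refine Finset.sum_lt_sum (fun q _ => ?_) ⟨f g, Finset.mem_univ _, hno' _ hg'⟩
      rcases eq_or_ne q (f 1) with rfl | h
      · exact hone'.le
      · exact (hno' q h).le
    rw [Finset.sum_const, Finset.card_univ, smul_eq_mul, ← Nat.card_eq_fintype_card,
      ← Subgroup.index_eq_card] at hlt
    omega
  obtain ⟨u, hu⟩ : ∃ u, u ∈ S.filter fun x => f x = q :=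
    Finset.card_pos.1 (lt_of_lt_of_le (by norm_num) hbig)
  obtain ⟨huS, huq⟩ := Finset.mem_filter.1 hu
  obtain ⟨uu, u1⟩ := (hmemS u).1 huS
  have huH : u ∉ H := fun h => hq (huq ▸ by
    show (u : G ⧸ H) = ((1 : G) : G ⧸ H)
    rw [QuotientGroup.eq, mul_one, inv_mem_iff]; exact h)
  have hui : u⁻¹ = u := inv_eq_of_mul_eq_one_right uu
  let D : Subgroup G := H ⊓ H.comap (MulAut.conj u).toMonoidHom
  have hmemD : ∀ d, d ∈ D ↔ d ∈ H ∧ u * d * u ∈ H := fun d => by
    simp [D, Subgroup.mem_inf, hui]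
  have hDu : ∀ d ∈ D, u * d * u ∈ D := fun d hd => by
    obtain ⟨h1, h2⟩ := (hmemD d).1 hd
    refine (hmemD _).2 ⟨h2, ?_⟩
    rwa [show u * (u * d * u) * u = u * u * d * (u * u) by group, uu, one_mul, mul_one]
  have hodd : Odd (Nat.card D) := by
    rw [← Nat.not_even_iff_odd]
    intro he
    have : Fact (Nat.Prime 2) := ⟨Nat.prime_two⟩
    obtain ⟨⟨z, hzD⟩, hz⟩ := exists_prime_orderOf_dvd_card' 2 (even_iff_two_dvd.1 he)
    rw [Subgroup.orderOf_mk] at hz
    have zz : z * z = 1 := by rw [← pow_two, ← hz, pow_orderOf_eq_one]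
    have z1 : z ≠ 1 := fun e => by rw [e, orderOf_one] at hz; omega
    obtain ⟨h1, h2⟩ := (hmemD z).1 hzD
    obtain ⟨h, hh, e⟩ := hcls z h1 (u * z * u) h2 zz z1
      (by rw [show u * z * u * (u * z * u) = u * z * (u * u) * z * u by group, uu, mul_one,
        mul_assoc u z z, zz, mul_one, uu])
      (fun e => z1 (by
        have := congrArg (fun w => u * w * u) e
        simpa [show u * (u * z * u) * u = u * u * z * (u * u) by group, uu] using this))
    refine huH ?_
    have hm : h⁻¹ * u ∈ H := hCz z h1 zz z1 _ (by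
      calc h⁻¹ * u * z = h⁻¹ * (u * z * u) * u⁻¹ := by group
        _ = h⁻¹ * (h * z * h⁻¹) * u := by rw [hui, e]
        _ = z * (h⁻¹ * u) := by group)
    simpa using mul_mem hh hm
  let J : Finset G := (S.filter fun x => f x = q).image (u * ·)
  have hJc : J.card = (S.filter fun x => f x = q).card :=
    Finset.card_image_of_injective _ (mul_right_injective u)
  have hJ : ∀ h ∈ J, h ∈ D ∧ u * h * u = h⁻¹ := by
    intro h hh
    obtain ⟨x, hx, rfl⟩ := Finset.mem_image.1 hh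
    obtain ⟨hxS, hxq⟩ := Finset.mem_filter.1 hx
    obtain ⟨xx, -⟩ := (hmemS x).1 hxS
    have hxH : u * x ∈ H := by
      have := QuotientGroup.eq.1 (huq.trans hxq.symm : (u : G ⧸ H) = (x : G ⧸ H))
      rwa [hui] at this
    have hinv : u * (u * x) * u = (u * x)⁻¹ := by
      rw [mul_inv_rev, hui, inv_eq_of_mul_eq_one_right xx, ← mul_assoc u u x, uu, one_mul]
    exact ⟨(hmemD _).2 ⟨hxH, hinv ▸ inv_mem hxH⟩, hinv⟩
  obtain ⟨hb, hab⟩ := inverted_bound D hodd uu hDu J hJ
  obtain ⟨c, hcdef⟩ : ∃ c, Nat.card ↥(D ⊓ centralizer ({u} : Set G)) = c := ⟨_, rfl⟩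
  obtain ⟨d, hddef⟩ : ∃ d, Nat.card D = d := ⟨_, rfl⟩
  rw [hcdef, hddef, hJc] at hb
  rw [hcdef] at hab
  rw [hddef] at hodd
  have hb' : 7371 * c ≤ d := le_trans (Nat.mul_le_mul_right c hbig) hb
  have hd : d ∣ 66339 := by
    have h1 : d ∣ 2 ^ 6 * 66339 := by
      rw [show (2 : ℕ) ^ 6 * 66339 = 4245696 from rfl, ← hH, ← hddef]
      exact Subgroup.card_dvd_of_le inf_le_left
    exact (Nat.Coprime.pow_right 6 (Nat.coprime_two_right.2 hodd)).dvd_of_dvd_mul_left h1
  have hcpos : 0 < c := hcdef ▸ Nat.card_pos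
  have hcase : ∀ n ∈ (66339 : ℕ).divisors, 7371 ≤ n → 91 ∣ n ∨ n = 9477 := by decide +kernel
  rcases hcase d (Nat.mem_divisors.2 ⟨hd, by norm_num⟩) (by omega) with h91 | h9477
  · obtain ⟨x, hx, hxo⟩ := exists_orderOf_ninety_one D (by rw [hddef]; exact h91) (by rw [hddef]; exact hd)
    exact (hno x ((hmemD x).1 hx).1).2 hxo
  · have hc1 : c = 1 := by omega
    have : Fact (Nat.Prime 3) := ⟨Nat.prime_three⟩
    have : Fact (Nat.Prime 13) := ⟨by norm_num⟩
    obtain ⟨⟨a, ha⟩, hao⟩ := exists_prime_orderOf_dvd_card' 3 (show 3 ∣ Nat.card D by rw [hddef, h9477]; norm_num)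
    obtain ⟨⟨b, hbm⟩, hbo⟩ :=
      exists_prime_orderOf_dvd_card' 13 (show 13 ∣ Nat.card D by rw [hddef, h9477]; norm_num)
    rw [Subgroup.orderOf_mk] at hao hbo
    refine (hno (a * b) (mul_mem ((hmemD a).1 ha).1 ((hmemD b).1 hbm).1)).1 ?_
    rw [(hab hc1 a ha b hbm).orderOf_mul_eq_mul_orderOf_of_coprime (by rw [hao, hbo]; norm_num), hao, hbo]

end Cfsg.Agent.G2Amalgam.End
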