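import Cfsg.Agent.G2Amalgam.Defs
import Cfsg.Agent.G2Amalgam.End.Count
import Cfsg.Agent.G2Three.Main
import Cfsg.Agent.S1055
import Cfsg.Agent.S1077
import Cfsg.Agent.S1078
import Cfsg.Agent.S4278
import Cfsg.Agent.S4279

/-!
The image of the Steinberg group over three elements is the whole group.
-/

set_option autoImplicit false

namespace Cfsg.Agent.G2Amalgam

open Subgroup Cfsg.Lie

theorem st_equiv : Nonempty (St ≃* ↥(chevG2.group (ZMod 3))) := by
  have hD : chevG2 ∈ [chevG2, chevB2, chevD4, chevF4, chevE6, chevE7, chevE8] := List.mem_cons_self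
  obtain ⟨θ, hs, hk, -⟩ := Cfsg.Agent.S1077.result (K := ZMod 3) chevG2 hD
  rw [Cfsg.Agent.S1078.result (K := ZMod 3) chevG2 List.mem_cons_self] at hk
  exact ⟨MulEquiv.ofBijective θ ⟨(MonoidHom.ker_eq_bot_iff θ).1 hk, hs⟩⟩

theorem st_finite : Finite St := by
  obtain ⟨e⟩ := st_equiv
  exact Finite.of_equiv _ e.symm.toEquiv

theorem st_card : Nat.card St = 4245696 := by
  obtain ⟨e⟩ := st_equiv
  rw [Nat.card_congr e.toEquiv]
  exact G2Three.card_group (ZMod.card 3)

theorem st_simple : IsSimpleGroup St := by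
  obtain ⟨e⟩ := st_equiv
  have := (Cfsg.Agent.S1055.result (F := ZMod 3) ⟨2, by decide, by decide⟩).1
  exact e.isSimpleGroup

theorem injective_of_ne_one {M : Type*} [Group M] (φ : St →* M) (hφ : φ ≠ 1) : Function.Injective φ := by
  have := st_simple
  rcases (inferInstance : φ.ker.Normal).eq_bot_or_eq_top with h | h
  · exact (MonoidHom.ker_eq_bot_iff φ).1 h
  · exact absurd (MonoidHom.ker_eq_top_iff.1 h) hφ

theorem range_eq_top {G : Type*} [Group G] [Finite G] (φ : St →* G) (hφ : φ ≠ 1) (t : G) (ht : t ∈ φ.range)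
    (t1 : t ≠ 1) (tt : t * t = 1) (hc : Nat.card ↥(centralizer ({t} : Set G)) = 576) : φ.range = ⊤ := by
  classical
  have : Fact (Nat.Prime 2) := ⟨Nat.prime_two⟩
  obtain ⟨e₀⟩ := st_equiv
  let e : ↥(chevG2.group (ZMod 3)) ≃* ↥φ.range :=
    e₀.symm.trans (MonoidHom.ofInjective (injective_of_ne_one φ hφ))
  have hord : ∀ a : ↥φ.range, orderOf (e.symm a) = orderOf (a : G) := fun a => by
    rw [e.symm.orderOf_eq, Subgroup.orderOf_coe]
  have hodd : Odd (Fintype.card (ZMod 3)) := by rw [ZMod.card]; decide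
  have hcls : ∀ a ∈ φ.range, ∀ b ∈ φ.range, a * a = 1 → a ≠ 1 → b * b = 1 → b ≠ 1 →
      ∃ h ∈ φ.range, h * a * h⁻¹ = b := by
    intro a ha b hb aa a1 bb b1
    obtain ⟨c, hc⟩ := isConj_iff.1 (Cfsg.Agent.S4278.result hodd (e.symm ⟨a, ha⟩) (e.symm ⟨b, hb⟩)
      (by rw [hord]; exact orderOf_eq_prime (by rw [pow_two]; exact aa) a1)
      (by rw [hord]; exact orderOf_eq_prime (by rw [pow_two]; exact bb) b1))
    have := congrArg e hc
    rw [map_mul, map_mul, map_inv, MulEquiv.apply_symm_apply, MulEquiv.apply_symm_apply] at this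
    exact ⟨_, (e c).2, congrArg Subtype.val this⟩
  have hno : ∀ x ∈ φ.range, orderOf x ≠ 39 ∧ orderOf x ≠ 91 := by
    intro x hx
    have key : ∀ r s : ℕ, r.Prime → s.Prime → r ≠ s → ¬(r = 2 ∧ s = 3 ∨ r = 3 ∧ s = 2) →
        orderOf x ≠ r * s := fun r s hr hs hrs hn h =>
      hn ((G2Three.g2_adj_iff (F := ZMod 3) (ZMod.card 3) hr hs hrs).1 ⟨e.symm ⟨x, hx⟩, by rw [hord]; exact h⟩)
    exact ⟨key 3 13 Nat.prime_three (by norm_num) (by norm_num) (by norm_num),
      key 7 13 (by norm_num) (by norm_num) (by norm_num) (by norm_num)⟩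
  have hcard : Nat.card ↥φ.range = 4245696 :=
    (Nat.card_congr e.toEquiv).symm.trans (G2Three.card_group (ZMod.card 3))
  refine End.eq_top_of_centralizer φ.range hcard hcls hno t ht t1 tt ?_ hc
  have h576 : Nat.card ↥(centralizer ({e.symm ⟨t, ht⟩} : Set ↥(chevG2.group (ZMod 3)))) = 576 := by
    rw [(Cfsg.Agent.S4279.result hodd (e.symm ⟨t, ht⟩)
      (by rw [hord]; exact orderOf_eq_prime (by rw [pow_two]; exact tt) t1)).1, ZMod.card]
    norm_num
  let f : ↥(chevG2.group (ZMod 3)) →* G := φ.range.subtype.comp e.toMonoidHom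
  have hf : Function.Injective f := Subtype.val_injective.comp e.injective
  have hft : f (e.symm ⟨t, ht⟩) = t := congrArg Subtype.val (e.apply_symm_apply _)
  have hle : (centralizer ({e.symm ⟨t, ht⟩} : Set ↥(chevG2.group (ZMod 3)))).map f ≤
      centralizer ({t} : Set G) := by
    rintro _ ⟨c, hcm, rfl⟩
    rw [mem_centralizer_singleton_iff, ← hft, ← map_mul, ← map_mul, mem_centralizer_singleton_iff.1 hcm]
  rw [← eq_of_le_of_card_ge hle (by rw [card_map_of_injective hf, h576, hc])]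
  rintro _ ⟨c, -, rfl⟩
  exact (e c).2

end Cfsg.Agent.G2Amalgam
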