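import Mathlib

/-!
Odd subgroups normalised by an outer involution, for the counting step of the `G₂(3)` endgame.
-/

set_option autoImplicit false

namespace Cfsg.Agent.G2Amalgam.End

open Subgroup

variable {G : Type*} [Group G] [Finite G]

/-- A group with a normal-or-not subgroup of order 13 inside one of the orders `3^a * 7 * 13` has an element of
order 91. -/
theorem exists_orderOf_ninety_one (D : Subgroup G) (h91 : 91 ∣ Nat.card D) (hd : Nat.card D ∣ 66339) :
    ∃ x ∈ D, orderOf x = 91 := by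
  classical
  have : Fact (Nat.Prime 13) := ⟨by norm_num⟩
  have : Fact (Nat.Prime 7) := ⟨by norm_num⟩
  obtain ⟨P⟩ : Nonempty (Sylow 13 D) := inferInstance
  have hP13 : Nat.card (P : Subgroup D) = 13 := by
    obtain ⟨n, hn⟩ := IsPGroup.iff_card.1 P.isPGroup'
    have h1 : 13 ∣ Nat.card (P : Subgroup D) := by
      obtain ⟨Q, hQ⟩ := Sylow.exists_subgroup_card_pow_prime 13
        (show 13 ^ 1 ∣ Nat.card D by rw [pow_one]; exact (show 13 ∣ 91 by norm_num).trans h91)
      obtain ⟨R, hR⟩ := (IsPGroup.of_card (n := 1) hQ).exists_le_sylow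
      obtain ⟨g, rfl⟩ := MulAction.exists_smul_eq D R P
      rw [Nat.card_congr (Sylow.equiv R (g • R)).toEquiv.symm]
      have := Subgroup.card_dvd_of_le hR
      rwa [hQ, pow_one] at this
    have h2 : 13 ^ n ∣ 66339 := hn ▸ (Subgroup.card_subgroup_dvd_card _).trans hd
    rcases n with _ | _ | n
    · rw [hn] at h1; norm_num at h1
    · rw [hn, pow_one]
    · exact absurd ((pow_dvd_pow 13 (show 2 ≤ n + 2 by omega)).trans h2) (by norm_num)
  set N := normalizer ((P : Subgroup D) : Set D) with hNdef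
  have hindex : Nat.card (P : Subgroup D) * N.index ∣ Nat.card D := by
    rw [← N.card_mul_index]
    exact Nat.mul_dvd_mul_right (Subgroup.card_dvd_of_le le_normalizer) _
  have hmod : N.index % 13 = 1 := by
    have h := card_sylow_modEq_one 13 D
    rw [P.card_eq_index_normalizer] at h
    exact h
  have h5103 : N.index ∣ 5103 := by
    have := hindex.trans hd
    rw [hP13, show 66339 = 13 * 5103 from rfl] at this
    exact Nat.dvd_of_mul_dvd_mul_left (by norm_num) this
  have h7N : 7 ∣ Nat.card N := by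
    have h7 : 7 ∣ Nat.card N * N.index := N.card_mul_index ▸ (show 7 ∣ 91 by norm_num).trans h91
    refine ((show Nat.Prime 7 by norm_num).dvd_mul.1 h7).resolve_right fun h => ?_
    have key : ∀ m ∈ (5103 : ℕ).divisors, 7 ∣ m → m % 13 ≠ 1 := by decide +kernel
    exact key _ (Nat.mem_divisors.2 ⟨h5103, by norm_num⟩) h hmod
  obtain ⟨a, ha⟩ := exists_prime_orderOf_dvd_card' 7 h7N
  obtain ⟨b, hb⟩ := exists_prime_orderOf_dvd_card' 13 (show 13 ∣ Nat.card (P : Subgroup D) by rw [hP13])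
  obtain ⟨x, hx, hxo⟩ : ∃ x : D, x ∈ N ∧ orderOf x = 7 := ⟨a, a.2, by rwa [orderOf_coe]⟩
  obtain ⟨y, hy, hyo⟩ : ∃ y : D, y ∈ (P : Subgroup D) ∧ orderOf y = 13 := ⟨b, b.2, by rwa [orderOf_coe]⟩
  have hPy : (P : Subgroup D) = zpowers y :=
    (eq_of_le_of_card_ge (zpowers_le.2 hy) (by rw [Nat.card_zpowers, hyo, hP13])).symm
  have hmem : x * y * x⁻¹ ∈ zpowers y := hPy ▸ (mem_normalizer_iff.1 hx y).1 hy
  obtain ⟨r, hr⟩ := (mem_powers_iff_mem_zpowers (x := y)).2 hmem
  have hr' : y ^ (r % 13) = x * y * x⁻¹ := by rw [← hyo, pow_mod_orderOf]; exact hr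
  have hit : ∀ k : ℕ, x ^ k * y * (x ^ k)⁻¹ = y ^ ((r % 13) ^ k) := by
    intro k
    induction k with
    | zero => simp
    | succ k ih =>
      calc x ^ (k + 1) * y * (x ^ (k + 1))⁻¹ = x * (x ^ k * y * (x ^ k)⁻¹) * x⁻¹ := by rw [pow_succ']; group
        _ = (x * y * x⁻¹) ^ ((r % 13) ^ k) := by rw [ih, conj_pow]
        _ = y ^ ((r % 13) ^ (k + 1)) := by rw [← hr', ← pow_mul, pow_succ']
  have h1 := hit 7
  rw [← hxo, pow_orderOf_eq_one, one_mul, inv_one, mul_one, hxo] at h1
  have hmd : (r % 13) ^ 7 % 13 = 1 := by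
    have : y ^ 1 = y ^ ((r % 13) ^ 7) := by rw [pow_one]; exact h1
    rw [pow_inj_mod, hyo] at this
    omega
  have hone : ∀ m < 13, m ^ 7 % 13 = 1 → m = 1 := by decide
  rw [hone _ (Nat.mod_lt _ (by norm_num)) hmd, pow_one] at hr'
  have hc : Commute x y := (mul_inv_eq_iff_eq_mul.1 hr'.symm : x * y = y * x)
  refine ⟨(x * y : D), (x * y).2, ?_⟩
  rw [orderOf_coe, hc.orderOf_mul_eq_mul_orderOf_of_coprime (by rw [hxo, hyo]; norm_num), hxo, hyo]

/-- An involution normalising an odd subgroup: the elements it inverts. -/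
theorem inverted_bound (D : Subgroup G) (hodd : Odd (Nat.card D)) {u : G} (hu : u * u = 1)
    (hD : ∀ d ∈ D, u * d * u ∈ D) (J : Finset G) (hJ : ∀ h ∈ J, h ∈ D ∧ u * h * u = h⁻¹) :
    J.card * Nat.card ↥(D ⊓ centralizer ({u} : Set G)) ≤ Nat.card D ∧
      (Nat.card ↥(D ⊓ centralizer ({u} : Set G)) = 1 → ∀ a ∈ D, ∀ b ∈ D, Commute a b) := by
  classical
  have hku : ∀ h ∈ J, ∃ k ∈ D, k * u * k⁻¹ * u = h := by
    intro h hh
    obtain ⟨hhD, hinv⟩ := hJ h hh
    obtain ⟨m, hm⟩ : Odd (orderOf h) := by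
      refine Odd.of_dvd_nat hodd ?_
      exact orderOf_dvd_natCard D hhD
    refine ⟨h ^ (m + 1), pow_mem hhD _, ?_⟩
    have hk : ∀ j : ℕ, u * h ^ j * u = (h ^ j)⁻¹ := by
      intro j
      induction j with
      | zero => simp [hu]
      | succ j ih =>
        calc u * h ^ (j + 1) * u = (u * h ^ j * u) * (u * h * u) := by
              rw [pow_succ]
              calc u * (h ^ j * h) * u = u * h ^ j * 1 * h * u := by group
                _ = _ := by rw [← hu]; group
          _ = (h ^ (j + 1))⁻¹ := by rw [ih, hinv, pow_succ', mul_inv_rev]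
    have hui : u⁻¹ = u := inv_eq_of_mul_eq_one_right hu
    have hk' : u * (h ^ (m + 1))⁻¹ * u = h ^ (m + 1) := by
      have := congrArg (fun w => w⁻¹) (hk (m + 1))
      simpa [mul_inv_rev, hui, mul_assoc] using this
    rw [mul_assoc (h ^ (m + 1) * u), mul_assoc (h ^ (m + 1)), ← mul_assoc u, hk', ← pow_add,
      show m + 1 + (m + 1) = orderOf h + 1 by omega, pow_succ, pow_orderOf_eq_one, one_mul]
  choose! k hkD hkh using hku
  constructor
  · rw [← Nat.card_eq_finsetCard, ← Nat.card_prod]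
    refine Nat.card_le_card_of_injective
      (fun p => (⟨k p.1.1 * p.2.1, mul_mem (hkD _ p.1.2) p.2.2.1⟩ : D)) ?_
    rintro ⟨⟨a, ha⟩, ⟨c, hc⟩⟩ ⟨⟨a', ha'⟩, ⟨c', hc'⟩⟩ he
    have he' : k a * c = k a' * c' := congrArg Subtype.val he
    have hcu : ∀ w ∈ centralizer ({u} : Set G), w * u * w⁻¹ = u := fun w hw => by
      rw [mem_centralizer_singleton_iff.1 hw, mul_inv_cancel_right]
    have h1 : a = a' := by
      rw [← hkh a ha, ← hkh a' ha']
      calc k a * u * (k a)⁻¹ * u = k a * (c * u * c⁻¹) * (k a)⁻¹ * u := by rw [hcu c hc.2]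
        _ = k a * c * u * (k a * c)⁻¹ * u := by group
        _ = k a' * (c' * u * c'⁻¹) * (k a')⁻¹ * u := by rw [he']; group
        _ = k a' * u * (k a')⁻¹ * u := by rw [hcu c' hc'.2]
    subst h1
    have h2 : c = c' := mul_left_cancel he'
    subst h2
    rfl
  · intro h1 a ha b hb
    have hui : u⁻¹ = u := inv_eq_of_mul_eq_one_right hu
    let f : D → D := fun d => ⟨d.1 * u * d.1⁻¹ * u, by
      have := hD _ (D.inv_mem d.2)
      simpa [mul_assoc] using D.mul_mem d.2 this⟩
    have hinj : Function.Injective f := by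
      intro d e he
      have he' : d.1 * u * d.1⁻¹ * u = e.1 * u * e.1⁻¹ * u := congrArg Subtype.val he
      have h2 : d.1 * u * d.1⁻¹ = e.1 * u * e.1⁻¹ := mul_right_cancel he'
      have hmem : e.1⁻¹ * d.1 ∈ D ⊓ centralizer ({u} : Set G) := by
        refine ⟨D.mul_mem (D.inv_mem e.2) d.2, mem_centralizer_singleton_iff.2 ?_⟩
        calc e.1⁻¹ * d.1 * u = e.1⁻¹ * (d.1 * u * d.1⁻¹) * d.1 := by group
          _ = u * (e.1⁻¹ * d.1) := by rw [h2]; group
      have := Subgroup.eq_bot_of_card_eq _ h1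
      rw [this, mem_bot, inv_mul_eq_one] at hmem
      exact Subtype.ext hmem.symm
    have hinv : ∀ d ∈ D, u * d * u = d⁻¹ := by
      intro d hd
      obtain ⟨e, he⟩ := Finite.injective_iff_surjective.1 hinj ⟨d, hd⟩
      have he' : e.1 * u * e.1⁻¹ * u = d := congrArg Subtype.val he
      rw [← he']
      simp only [mul_inv_rev, inv_inv, hui, ← mul_assoc]
      simp only [mul_assoc, hu, mul_one]
    have := hinv _ (mul_mem ha hb)
    rw [show u * (a * b) * u = (u * a * u) * (u * b * u) by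
      calc u * (a * b) * u = u * a * 1 * b * u := by group
        _ = _ := by rw [← hu]; group, hinv a ha, hinv b hb, mul_inv_rev] at this
    exact (inv_inj.1 (by rw [mul_inv_rev, mul_inv_rev]; exact this.symm) : a * b = b * a)

end Cfsg.Agent.G2Amalgam.End
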